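import Groth.Agent.FlatOverBC.Free
import Groth.Agent.CurveDeg.Twist
import Mathlib.RingTheory.Spectrum.Prime.FreeLocus
import Mathlib.RingTheory.LocalRing.Module
import Mathlib.RingTheory.Localization.Free

/-! Locally free modules are free near a finite set inside an affine open. -/

set_option autoImplicit false
set_option backward.isDefEq.respectTransparency false
set_option backward.isDefEq.respectTransparency.types false

noncomputable section

universe u

open CategoryTheory AlgebraicGeometry Opposite TopologicalSpace TensorProduct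
open Groth.Agent.QCohBase

namespace Groth.Agent.FreeNearFinite

section Algebra

variable {C M : Type u} [CommRing C] [AddCommGroup M] [Module C M]

/-- the elements outside finitely many primes -/
def outside {ι : Type*} (P : ι → PrimeSpectrum C) : Submonoid C := ⨅ i, (P i).asIdeal.primeCompl

theorem mem_outside {ι : Type*} {P : ι → PrimeSpectrum C} {a : C} :
    a ∈ outside P ↔ ∀ i, a ∉ (P i).asIdeal := by
  simp [outside, Submonoid.mem_iInf]

theorem finite_maximalSpectrum {ι : Type*} [Finite ι] (P : ι → PrimeSpectrum C) :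
    Finite (MaximalSpectrum (Localization (outside P))) := by
  cases nonempty_fintype ι
  let L := Localization (outside P)
  have key : ∀ Q : MaximalSpectrum L, ∃ i, Q.asIdeal.comap (algebraMap C L) ≤ (P i).asIdeal := by
    intro Q
    have hd : ∀ a ∈ Q.asIdeal.comap (algebraMap C L), a ∉ outside P := fun a ha hS =>
      Q.isMaximal.ne_top (Ideal.eq_top_of_isUnit_mem _ ha (IsLocalization.map_units L ⟨a, hS⟩))
    have hsub : (Q.asIdeal.comap (algebraMap C L) : Set C) ⊆ ⋃ i ∈ (↑(Finset.univ : Finset ι) : Set ι), ↑(P i).asIdeal := by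
      intro a ha
      have := hd a ha
      rw [mem_outside] at this
      push Not at this
      obtain ⟨i, hi⟩ := this
      exact Set.mem_iUnion₂.2 ⟨i, Finset.mem_coe.2 (Finset.mem_univ i), hi⟩
    obtain ⟨i₀, -⟩ := Set.mem_iUnion₂.1 (hsub (Ideal.zero_mem _))
    obtain ⟨i, -, hi⟩ := (Ideal.subset_union_prime (f := fun i => (P i).asIdeal) (s := Finset.univ)
      i₀ i₀ (fun i _ _ _ => (P i).2)).1 hsub
    exact ⟨i, hi⟩
  choose g hg using key
  refine Finite.of_injective g fun Q Q' h => ?_
  have hmax : ∀ Q : MaximalSpectrum L, Q.asIdeal = (P (g Q)).asIdeal.map (algebraMap C L) := fun Q => by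
    refine Q.isMaximal.eq_of_le ?_ ?_
    · refine (IsLocalization.isPrime_of_isPrime_disjoint (outside P) L _ (P (g Q)).2 ?_).ne_top
      exact Set.disjoint_left.2 fun a ha hb => mem_outside.1 ha _ hb
    · calc Q.asIdeal = (Q.asIdeal.comap (algebraMap C L)).map (algebraMap C L) :=
            (IsLocalization.map_comap (outside P) L _).symm
        _ ≤ _ := Ideal.map_mono (hg Q)
  exact MaximalSpectrum.ext (by rw [hmax Q, hmax Q', h])

/-- Constant rank projective modules are free near finitely many primes. -/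
theorem exists_free_powers [Module.FinitePresentation C M] [Module.Flat C M] {ι : Type*} [Finite ι] [Nonempty ι]
    (P : ι → PrimeSpectrum C) (r : ℕ) (hr : ∀ p : PrimeSpectrum C, Module.rankAtStalk M p = r) :
    ∃ g : C, (∀ i, g ∉ (P i).asIdeal) ∧ Module.Free (Localization (.powers g)) (LocalizedModule.Away g M) ∧
      Module.finrank (Localization (.powers g)) (LocalizedModule.Away g M) = r := by
  let L := Localization (outside P)
  haveI := finite_maximalSpectrum P
  haveI : Nontrivial L := not_subsingleton_iff_nontrivial.1 fun h =>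
    mem_outside.1 ((IsLocalization.subsingleton_iff (M := outside P) (S := L)).1 h) (Classical.arbitrary ι) (Ideal.zero_mem _)
  have hrk : ∀ Q : MaximalSpectrum L, Module.finrank (L ⧸ Q.asIdeal) ((L ⧸ Q.asIdeal) ⊗[L] (L ⊗[C] M)) = r := fun Q => by
    haveI := Q.isMaximal
    letI := Ideal.Quotient.field Q.asIdeal
    let q : PrimeSpectrum L := ⟨Q.asIdeal, Q.isMaximal.isPrime⟩
    have h1 : Module.rankAtStalk (R := L) (L ⊗[C] M) q = r := by rw [Module.rankAtStalk_baseChange]; exact hr _
    rw [Module.rankAtStalk_eq] at h1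
    rw [← h1]
    let e := AlgebraTensorModule.cancelBaseChange L (L ⧸ Q.asIdeal) Q.asIdeal.ResidueField Q.asIdeal.ResidueField (L ⊗[C] M)
    refine Eq.trans ?_ e.finrank_eq
    exact Module.finrank_baseChange.symm
  haveI : Module.Free L (L ⊗[C] M) := Module.free_of_flat_of_finrank_eq L _ r hrk
  obtain ⟨g, hg, hfree, hrank⟩ := Module.FinitePresentation.exists_free_localizedModule_powers (outside P)
    (TensorProduct.mk C L M 1) L
  refine ⟨g, mem_outside.1 hg, hfree, hrank.trans ?_⟩
  obtain ⟨Q⟩ : Nonempty (MaximalSpectrum L) := inferInstance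
  haveI := Q.isMaximal
  letI := Ideal.Quotient.field Q.asIdeal
  exact Module.finrank_baseChange.symm.trans (hrk Q)

end Algebra

variable {X : Scheme.{u}} (M : X.Modules) {r : ℕ}

theorem rankAtStalk_sections (hM : FlatMod.IsFinLocFreeOfRank r M) {U : X.Opens} (hU : IsAffineOpen U)
    (p : PrimeSpectrum Γ(X, U)) : Module.rankAtStalk (R := Γ(X, U)) Γ(M, U) p = r := by
  haveI : M.IsQuasicoherent := (CurveDeg.isCoh_of_rank hM).1
  have hF := TensorMod.isFinLocFree_of_rank hM
  obtain ⟨hfin, hproj⟩ := FinLocFreeSections.finite_projective_sections M hF hU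
  have hy : hU.fromSpec p ∈ U := by
    have : hU.fromSpec p ∈ Set.range hU.fromSpec := ⟨p, rfl⟩
    rwa [hU.range_fromSpec] at this
  have hp : hU.primeIdealOf ⟨hU.fromSpec p, hy⟩ = p := by
    apply hU.fromSpec.isOpenEmbedding.injective
    rw [hU.fromSpec_primeIdealOf]
  let y := hU.fromSpec p
  let q := hU.primeIdealOf ⟨y, hy⟩
  suffices h : Module.rankAtStalk (R := Γ(X, U)) Γ(M, U) q = r by rwa [show q = p from hp] at h
  letI := FlatOver.germModule M y hy
  letI : Algebra Γ(X, U) (X.presheaf.stalk y) := (X.presheaf.germ U y hy).hom.toAlgebra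
  haveI : IsLocalization.AtPrime (X.presheaf.stalk y) q.asIdeal := hU.isLocalization_stalk ⟨y, hy⟩
  haveI : IsScalarTower Γ(X, U) (X.presheaf.stalk y) (M.presheaf.stalk y) :=
    .of_algebraMap_smul fun r z => rfl
  haveI := FlatOver.isLocalizedModule_germₗ M hU y hy
  let O := Localization.AtPrime q.asIdeal
  let LM := LocalizedModule q.asIdeal.primeCompl Γ(M, U)
  haveI : Module.Free O LM := Module.free_of_flat_of_isLocalRing
  let σ : O ≃ₐ[Γ(X, U)] X.presheaf.stalk y := IsLocalization.algEquiv q.asIdeal.primeCompl O _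
  letI : Module O (M.presheaf.stalk y) := Module.compHom _ (σ : O →+* X.presheaf.stalk y)
  haveI : IsScalarTower Γ(X, U) O (M.presheaf.stalk y) := .of_algebraMap_smul fun c z => by
    show σ (algebraMap Γ(X, U) O c) • z = c • z
    rw [σ.commutes]
    rfl
  let e : LM ≃ₗ[O] M.presheaf.stalk y :=
    LinearEquiv.extendScalarsOfIsLocalization q.asIdeal.primeCompl O
      (IsLocalizedModule.iso q.asIdeal.primeCompl (FlatOver.germₗ M y hy))
  haveI : Module.Finite O LM :=
    Module.Finite.of_isLocalizedModule q.asIdeal.primeCompl (Rₚ := O) (LocalizedModule.mkLinearMap _ _)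
  let b := (Module.finBasis O LM).map e
  let b' : Module.Basis _ (X.presheaf.stalk y) (M.presheaf.stalk y) := b.mapCoeffs σ.toRingEquiv fun c z => rfl
  have h := CurveDeg.finrank_stalk hM y
  rw [Module.finrank_eq_card_basis b', Fintype.card_fin] at h
  exact h

/-- Freeness near a finite set inside an affine open. -/
theorem exists_free_near (hM : FlatMod.IsFinLocFreeOfRank r M) {Z : Set X} (hZ : Z.Finite)
    {U : X.Opens} (hU : IsAffineOpen U) (hZU : Z ⊆ U) :
    ∃ V : X.Opens, Z ⊆ V ∧ V ≤ U ∧ Nonempty (M.restrict V.ι ≅ FlatMod.freeMod (V : Scheme.{u}) r) := by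
  haveI : M.IsQuasicoherent := (CurveDeg.isCoh_of_rank hM).1
  obtain ⟨hfin, hproj⟩ := FinLocFreeSections.finite_projective_sections M (TensorMod.isFinLocFree_of_rank hM) hU
  rcases Z.eq_empty_or_nonempty with rfl | hne
  · refine ⟨⊥, Set.empty_subset _, bot_le, ?_⟩
    haveI : IsEmpty (⊥ : X.Opens) := ⟨fun x => x.2.elim⟩
    have hb : IsAffineOpen (⊥ : X.Opens) := isAffineOpen_bot X
    haveI : Subsingleton Γ(X, (⊥ : X.Opens)) := (CommRingCat.subsingleton_of_isTerminal X.sheaf.isTerminalOfEmpty)
    haveI := Module.subsingleton Γ(X, (⊥ : X.Opens)) Γ(M, (⊥ : X.Opens))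
    exact FlatOverBC.nonempty_iso_freeMod_of_basis M hb
      (Module.Basis.ofEquivFun { toFun := fun _ => 0, map_add' := fun _ _ => Subsingleton.elim _ _,
                                 map_smul' := fun _ _ => Subsingleton.elim _ _, invFun := fun _ => 0,
                                 left_inv := fun _ => Subsingleton.elim _ _, right_inv := fun _ => Subsingleton.elim _ _ })
  haveI := hne.to_subtype
  haveI := hZ.to_subtype
  haveI : Module.FinitePresentation Γ(X, U) Γ(M, U) := Module.finitePresentation_of_projective _ _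
  obtain ⟨g, hg, hfree, hrank⟩ := exists_free_powers (M := Γ(M, U))
    (fun z : Z => hU.primeIdealOf ⟨z.1, hZU z.2⟩) r (rankAtStalk_sections M hM hU)
  let D := X.basicOpen g
  have hsub : Z ⊆ D := fun z hz => (AssPts.notMem_prime_iff hU z (hZU hz) g).1 (hg ⟨z, hz⟩) |> fun h => by
    rw [SetLike.mem_coe, X.mem_basicOpen g z (hZU hz)]; exact h
  letI : Algebra Γ(X, U) Γ(X, D) := (ores (X.basicOpen_le g)).toAlgebra
  haveI : IsLocalization.Away g Γ(X, D) := hU.isLocalization_basicOpen g
  letI : Module Γ(X, U) Γ(M, D) := Module.compHom _ (ores (X.basicOpen_le g))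
  haveI := FlatOverBC.isLocalizedModule_mres M hU g
  let L := Localization (Submonoid.powers g)
  let σ : L ≃ₐ[Γ(X, U)] Γ(X, D) := IsLocalization.algEquiv (Submonoid.powers g) L Γ(X, D)
  letI : Module L Γ(M, D) := Module.compHom _ (σ : L →+* Γ(X, D))
  haveI : IsScalarTower Γ(X, U) L Γ(M, D) := .of_algebraMap_smul fun c z => by
    show σ (algebraMap Γ(X, U) L c) • z = ores (X.basicOpen_le g) c • z
    rw [σ.commutes]
    rfl
  let e : LocalizedModule.Away g Γ(M, U) ≃ₗ[L] Γ(M, D) :=
    LinearEquiv.extendScalarsOfIsLocalization (Submonoid.powers g) L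
      (IsLocalizedModule.iso (Submonoid.powers g)
        ({ toFun := mres M (X.basicOpen_le g)
           map_add' := map_add _
           map_smul' := mres_smul M (X.basicOpen_le g) } : Γ(M, U) →ₗ[Γ(X, U)] Γ(M, D)))
  haveI : Nontrivial L := by
    obtain ⟨z, hz⟩ := hne
    haveI : Nontrivial Γ(X, D) := (X.presheaf.germ D z (hsub hz)).hom.domain_nontrivial
    exact σ.toEquiv.nontrivial
  haveI : Module.Finite L (LocalizedModule.Away g Γ(M, U)) :=
    Module.Finite.of_isLocalizedModule (Submonoid.powers g) (Rₚ := L) (LocalizedModule.mkLinearMap _ _)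
  let b := (Module.finBasisOfFinrankEq L (LocalizedModule.Away g Γ(M, U)) hrank).map e
  let b' : Module.Basis _ Γ(X, D) Γ(M, D) := b.mapCoeffs σ.toRingEquiv fun c z => rfl
  exact ⟨D, hsub, X.basicOpen_le g, FlatOverBC.nonempty_iso_freeMod_of_basis M (hU.basicOpen g) b'⟩

end Groth.Agent.FreeNearFinite
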